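import Cfsg.Agent.H394.Wei.Norm
import Cfsg.Agent.H56.Exc.Auto_m3
import Cfsg.Agent.H563.KG.Elim_m3
import Cfsg.Agent.H946.KZ.SameF4
import Cfsg.Agent.H290.KTF4g
import Cfsg.Agent.H563.KG.CycFix
import Cfsg.Agent.OrdDiv.Table
import Cfsg.Agent.S0000
import Cfsg.Agent.FastGrp
import Cfsg.Agent.Prune
set_option linter.all false

section
prune_inst 0x7f00000000000000000000000000000000000000000000000000000000000000000000000000000000000000000000000000000000000000000000000000000000000000000000000000000000000000003fffffffffffffffffffffffffffbeffbdffffffff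

-- part: H394/Wei/Full
section
set_option linter.all false
open scoped Cfsg.Agent.FastGrp

/-!
# The simple section together with its trivial centraliser; one Zsigmondy prime suffices (helper394)
-/

set_option autoImplicit false

namespace Cfsg.Agent.H394.Wei

open Subgroup Cfsg.Agent.H56.Exc Cfsg.Agent.H563.KG

universe u

/-- **The section of a reduced group, with trivial centraliser.** -/
theorem exists_fullC {G : Type u} [Group G] [Finite G] {B : ℕ → ℕ → ℕ → Prop} (hE : CycFixSolv.{u}) (h : RFam G B)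
    (hred : Red G (Pr B)) {r₁ m₁ e₁ : ℕ} (hr₁ : B r₁ m₁ e₁) :
    ∃ S : Subgroup G, S.Normal ∧ IsSimpleGroup S ∧ ¬ IsMulCommutative S ∧ centralizer (S : Set G) = ⊥ ∧
      (∀ r m e, B r m e → Big S r m e ∧ r ∣ Nat.card S ∧ ¬ r ∣ S.index ∧ S.index ∣ e * m) := by
  obtain ⟨S, hSn, hs, hna, hC⟩ := h.exists_simple hred hr₁
  refine ⟨S, hSn, hs, hna, hC, fun r m e hr => ?_⟩
  have hb := h.big r m e hr
  have : Fact r.Prime := ⟨hb.prime⟩
  have hrS : r ∣ Nat.card S := by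
    by_contra hcon
    obtain ⟨x, hx⟩ := exists_prime_orderOf_dvd_card' r (h.dvd r m e hr)
    have h1 : Group.IsSolvable S := by
      apply hE S (MulAut.conjNormal (H := S) x) r hb.prime _ hcon
      · refine ⟨(centralizer {x}).comap S.subtype, ?_, fun a ha => ?_⟩
        · have := hb.cyc x hx
          let g : ↥((centralizer {x}).comap S.subtype) →* ↥(centralizer {x}) :=
            (S.subtype.comp ((centralizer {x}).comap S.subtype).subtype).codRestrict _ fun y => y.2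
          exact isCyclic_of_injective g fun a b hab => by
            have h3 : ((a : S) : G) = ((b : S) : G) := congrArg (fun z : ↥(centralizer {x}) => (z : G)) hab
            exact Subtype.ext (Subtype.ext h3)
        · rw [mem_comap, mem_centralizer_singleton_iff]
          have h2 := congrArg Subtype.val ha
          rw [MulAut.conjNormal_apply, mul_inv_eq_iff_eq_mul] at h2
          exact h2.symm
      · rw [← map_pow, ← hx, pow_orderOf_eq_one, map_one]
    apply hna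
    rw [isMulCommutative_iff]
    exact IsSimpleGroup.comm_iff_isSolvable.2 h1
  exact ⟨hb.subgroup S, hrS, hb.not_dvd_index S hs hna hrS, hb.index_dvd S hrS⟩

/-- an element of a group whose order is prime to the index of a normal subgroup lies in it -/
theorem mem_of_coprime_index {G : Type*} [Group G] [Finite G] (S : Subgroup G) [S.Normal] {x : G}
    (h : (orderOf x).Coprime S.index) : x ∈ S := by
  rw [← QuotientGroup.eq_one_iff, ← orderOf_eq_one_iff]
  exact Nat.eq_one_of_dvd_coprimes h (orderOf_map_dvd (QuotientGroup.mk' S) x) (orderOf_dvd_natCard _)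

open Cfsg.Agent.OrdDiv Cfsg.Agent.H436 Cfsg.Agent.H264.FKS Cfsg.Agent.H946.KZ

/-- one Zsigmondy prime of the top class gives all of them -/
theorem zt_of_one {p f c f₁ : ℕ} {XT X Y : ℕ → Prop} {MT aT M a : ℕ} (hp : p.Prime) (hf₁ : 1 ≤ f₁)
    (hT : TD p f c XT MT aT) (hK : KD p f₁ c X Y M a) (hY : Y M) (h7 : 7 ≤ f * MT)
    (hs : ∃ s, Prim p (f * MT) s ∧ s ∣ c) : ∀ s, Prim p (f * MT) s → s ∣ c := by
  obtain ⟨s, hs, hsc⟩ := hs
  obtain ⟨x, hx, hx2⟩ := hK.exp hs hsc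
  have hx3 := hK.le hx
  have h1 : f * MT ≤ f₁ * M :=
    (Nat.le_of_dvd (Nat.mul_pos (by omega) (by omega)) hx2).trans (Nat.mul_le_mul_left _ hx3.2)
  obtain ⟨t, ht⟩ := exists_prim (q := p) (e := f₁ * M) hp.two_le (by omega) (by omega)
  obtain ⟨i, hi, hd⟩ := hT.exp ht (hK.has hY (by omega) ht)
  have hi3 := hT.le hi
  have hf : 0 < f := by
    rcases Nat.eq_zero_or_pos f with rfl | h
    · omega
    · exact h
  have h2 : f₁ * M ≤ f * MT :=
    (Nat.le_of_dvd (Nat.mul_pos hf (by omega)) hd).trans (Nat.mul_le_mul_left _ hi3.2)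
  have h3 : f * MT = f₁ * M := le_antisymm h1 h2
  intro s' hs'
  exact hK.has hY (by omega) (by rwa [← h3])

end Cfsg.Agent.H394.Wei
end

-- part: H394/Wei/TF4
section
set_option linter.all false
open scoped Cfsg.Agent.FastGrp

/-!
# Overgroups of one torus of class 12 of `²F₄(q)` (helper394)

`card_dvd_tf4` : let `k` be one of the factors `mP`, `mM` of `q⁴ - q² + 1` and suppose `k` is divisible by a Zsigmondy
prime of `2 ^ (12 f) - 1`, `q = 2 ^ f`; a proper subgroup of `²F₄(q)` of order divisible by `k` has order dividing `12 k`.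
-/

set_option autoImplicit false
set_option exponentiation.threshold 700

namespace Cfsg.Agent.H394.Wei

open Subgroup Cfsg Cfsg.Lie Cfsg.Agent Cfsg.Agent.OrdDiv Cfsg.Agent.H436 Cfsg.Agent.H902 Cfsg.Agent.H290.ElReg
  Cfsg.Agent.H290.ElTab Cfsg.Agent.H290.ElCross
  Cfsg.Agent.H563.KG Cfsg.Agent.H915.GN Cfsg.Agent.H264.GN Cfsg.Agent.H264.FKS Cfsg.Agent.H325.Same Cfsg.Agent.H325.Loc
  Cfsg.Agent.H56.Exc Cfsg.Agent.H56.Wei Cfsg.Agent.H946.KZ Cfsg.Agent.H290.KTF4

/-! ### numbers -/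

section num

variable {m k r : ℕ}

/-- `k` is one of the two factors of `q⁴ - q² + 1` -/
def Kx (m k : ℕ) : Prop := k = mP (2 ^ m) ∨ k = mM (2 ^ m)

theorem Kx.cl (h : Kx m k) (hr : r.Prime) (hd : r ∣ k) : clTF (2 ^ m) 0 r ∨ clTF (2 ^ m) 1 r := by
  rcases h with rfl | rfl
  · exact Or.inl ⟨hr, hd⟩
  · exact Or.inr ⟨hr, hd⟩

theorem Kx.mod12 (hm : 1 ≤ m) (h : Kx m k) (hr : r.Prime) (hd : r ∣ k) : 12 ∣ r - 1 :=
  H290.KTF4.mod12 hm (h.cl hr hd)

theorem Kx.lt12 (hm : 1 ≤ m) (h : Kx m k) (hr : r.Prime) (hd : r ∣ k) : 12 < r :=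
  H290.KTF4.lt12 hm (h.cl hr hd)

theorem mM_two : mM (2 ^ 1) = 37 := by unfold mM; norm_num; rfl

theorem Kx.gt (hm : 1 ≤ m) (h : Kx m k) : 52 < k ∨ (m = 1 ∧ k = 37) := by
  rcases h with rfl | rfl
  · exact Or.inl (mP_gt hm)
  · rcases Nat.lt_or_ge m 2 with h1 | h1
    · obtain rfl : m = 1 := by omega
      exact Or.inr ⟨rfl, mM_two⟩
    · left
      have h2 : 4 ≤ 2 ^ m := by
        calc 4 = 2 ^ 2 := by norm_num
          _ ≤ 2 ^ m := Nat.pow_le_pow_right (by norm_num) h1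
      generalize 2 ^ m = x at h2 ⊢
      obtain ⟨t, rfl⟩ := Nat.exists_eq_add_of_le h2
      have h3 := cast_mM (x := 4 + t) (by omega)
      have h4 : ((52 : ℕ) : ℤ) < (mM (4 + t) : ℕ) := by
        rw [h3]
        push_cast
        nlinarith [Int.natCast_nonneg t, sq_nonneg ((t : ℤ)), mul_nonneg (Int.natCast_nonneg t) (sq_nonneg (t : ℤ)),
          sq_nonneg ((t : ℤ) ^ 2)]
      exact_mod_cast h4

theorem Kx.pos (hm : 1 ≤ m) (h : Kx m k) : 0 < k := by
  have := h.gt hm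
  omega

/-- small values -/
theorem Kx.small (hm : 1 ≤ m) (h : Kx m k) (hk : k ≤ 2701) :
    (m = 1 ∧ (k = 37 ∨ k = 109)) ∨ (m = 2 ∧ (k = 793 ∨ k = 1321)) := by
  have hm3 : m < 3 := by
    by_contra hcon
    have h2 : 8 ≤ 2 ^ m := by
      calc 8 = 2 ^ 3 := by norm_num
        _ ≤ 2 ^ m := Nat.pow_le_pow_right (by norm_num) (by omega)
    have h4 : ((2701 : ℕ) : ℤ) < (k : ℕ) := by
      rcases h with rfl | rfl
      · generalize 2 ^ m = x at h2 ⊢
        obtain ⟨t, rfl⟩ := Nat.exists_eq_add_of_le h2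
        rw [cast_mP]
        push_cast
        nlinarith [Int.natCast_nonneg t, sq_nonneg ((t : ℤ)), mul_nonneg (Int.natCast_nonneg t) (sq_nonneg (t : ℤ)),
          sq_nonneg ((t : ℤ) ^ 2)]
      · generalize 2 ^ m = x at h2 ⊢
        obtain ⟨t, rfl⟩ := Nat.exists_eq_add_of_le h2
        rw [cast_mM (by omega)]
        push_cast
        nlinarith [Int.natCast_nonneg t, sq_nonneg ((t : ℤ)), mul_nonneg (Int.natCast_nonneg t) (sq_nonneg (t : ℤ)),
          sq_nonneg ((t : ℤ) ^ 2)]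
    have h5 : 2701 < k := by exact_mod_cast h4
    omega
  have hm2 : m = 1 ∨ m = 2 := by omega
  rcases hm2 with rfl | rfl
  · left
    refine ⟨rfl, ?_⟩
    rcases h with rfl | rfl
    · right; unfold mP; norm_num
    · left; exact mM_two
  · right
    refine ⟨rfl, ?_⟩
    rcases h with rfl | rfl
    · right; unfold mP; norm_num
    · left; unfold mM; norm_num; rfl

/-- the survivors in cross characteristic -/
def svC (k q : ℕ) : Bool := (reg 52).all fun x =>
  !((OL x.1 (x.2.1 ^ x.2.2) % (Art.dd x.1 (x.2.1 ^ x.2.2) * k) == 0) &&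
    ((Art.dd x.1 (x.2.1 ^ x.2.2) * OL .TF4 q) % OL x.1 (x.2.1 ^ x.2.2) == 0) &&
    !(k == 37 && !([1, 2, 3, 4, 6, 12].contains (OL x.1 (x.2.1 ^ x.2.2) / Art.dd x.1 (x.2.1 ^ x.2.2) / 37 % 37))))

theorem svC_37 : svC 37 8 = true := by decide +kernel
theorem svC_109 : svC 109 8 = true := by decide +kernel
theorem svC_793 : svC 793 32 = true := by decide +kernel
theorem svC_1321 : svC 1321 32 = true := by decide +kernel

def svSp (k q : ℕ) : Bool := Cfsg.Agent.OrdDiv.spor.all fun x => !((x.2 % k == 0) && (OL .TF4 q % x.2 == 0))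

theorem svSp_37 : svSp 37 8 = true := by decide +kernel
theorem svSp_109 : svSp 109 8 = true := by decide +kernel
theorem svSp_793 : svSp 793 32 = true := by decide +kernel
theorem svSp_1321 : svSp 1321 32 = true := by decide +kernel

def ddP : Bool := (reg 52).all fun x => Nat.blt 0 (Art.dd x.1 (x.2.1 ^ x.2.2))

theorem ddP_true : ddP = true := by decide +kernel

theorem svC_all (hm : 1 ≤ m) (hk : Kx m k) (h : k ≤ 2701) : svC k (2 ^ (2 * m + 1)) = true := by
  rcases hk.small hm h with ⟨rfl, rfl | rfl⟩ | ⟨rfl, rfl | rfl⟩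
  · exact svC_37
  · exact svC_109
  · exact svC_793
  · exact svC_1321

theorem svSp_all (hm : 1 ≤ m) (hk : Kx m k) (h : k ≤ 2701) : svSp k (2 ^ (2 * m + 1)) = true := by
  rcases hk.small hm h with ⟨rfl, rfl | rfl⟩ | ⟨rfl, rfl | rfl⟩
  · exact svSp_37
  · exact svSp_109
  · exact svSp_793
  · exact svSp_1321

/-- **Cross characteristic.** -/
theorem no_crossT (hm : 1 ≤ m) (hk : Kx m k) {X : Art.Sh} {l a N : ℕ} (hR : Art.Real X l a N)
    (hlb : lb X (l ^ a) ≤ 52) (hkN : k ∣ N) (hN : N ∣ OL .TF4 (2 ^ (2 * m + 1))) :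
    k = 37 ∧ ¬ N / 37 % 37 ∈ [1, 2, 3, 4, 6, 12] := by
  have h1 := le_cross' (by norm_num) H290.KTF4.bndR_52_12 hR hlb (k := k) (fun r hr hrk => by
    have := hk.mod12 hm hr hrk
    omega) hkN
  obtain ⟨hl, ha, hokX, heq⟩ := hR
  have hreg := mem_reg (by norm_num) hl ha hokX hlb
  have hM : OL X (l ^ a) = Art.dd X (l ^ a) * N := by unfold OL; rw [numL_eq]; exact heq.symm
  have hd0 : 0 < Art.dd X (l ^ a) := by
    have := List.all_eq_true.1 ddP_true (X, (l, a)) hreg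
    simpa using this
  have h2 := List.all_eq_true.1 (svC_all hm hk h1) (X, (l, a)) hreg
  have h3 : OL X (l ^ a) / Art.dd X (l ^ a) = N := by rw [hM, Nat.mul_div_cancel_left _ hd0]
  have h4 : (OL X (l ^ a) % (Art.dd X (l ^ a) * k) == 0) = true := by
    rw [hM, beq_iff_eq]
    exact Nat.mod_eq_zero_of_dvd (Nat.mul_dvd_mul_left _ hkN)
  have h5 : ((Art.dd X (l ^ a) * OL .TF4 (2 ^ (2 * m + 1))) % OL X (l ^ a) == 0) = true := by
    rw [beq_iff_eq]
    conv_lhs => rw [hM]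
    exact Nat.mod_eq_zero_of_dvd (Nat.mul_dvd_mul_left _ hN)
  simp only [h3, h4, h5, Bool.true_and, Bool.not_not, Bool.and_eq_true, beq_iff_eq, Bool.not_eq_true'] at h2
  refine ⟨h2.1, fun hmem => ?_⟩
  have h6 := h2.2
  rw [← Bool.not_eq_true, List.contains_iff_mem] at h6
  exact h6 hmem

/-- **Sporadic groups.** -/
theorem no_sporT (hm : 1 ≤ m) (hk : Kx m k) {x : Cfsg.Agent.OrdDiv.Grp × ℕ} (hx : x ∈ Cfsg.Agent.OrdDiv.spor)
    (hkN : k ∣ x.2) (hN : x.2 ∣ OL .TF4 (2 ^ (2 * m + 1))) : False := by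
  have h1 := le_spor' H290.KTF4.bndS_12 hx (k := k) (fun r hr hrk => by
    have := hk.mod12 hm hr hrk
    omega) hkN
  have h2 := List.all_eq_true.1 (svSp_all hm hk h1) x hx
  simp [Nat.mod_eq_zero_of_dvd hkN, Nat.mod_eq_zero_of_dvd hN] at h2

/-- `37` does not divide the orders of the linear groups over the prime fields on the Sylow subgroups of `²F₄(8)` -/
theorem no37 {t j : ℕ} (ht : t.Prime) (h2 : t ≠ 2) (h37 : t ≠ 37) (hj : 0 < j)
    (hd : t ^ j ∣ OL .TF4 (2 ^ (2 * 1 + 1))) : ¬ 37 ∣ t ^ j - 1 := by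
  have hN : OL .TF4 (2 ^ (2 * 1 + 1)) = 2 ^ 36 * (3 ^ 5 * (5 ^ 2 * (7 ^ 2 * (13 ^ 2 * (19 * (37 * 109)))))) := by
    decide +kernel
  rw [hN] at hd
  have h1 : t ∣ 2 ^ 36 * (3 ^ 5 * (5 ^ 2 * (7 ^ 2 * (13 ^ 2 * (19 * (37 * 109)))))) :=
    (dvd_pow_self t (by omega)).trans hd
  have hpr : ∀ {s : ℕ}, s.Prime → t ∣ s → t = s := fun hs h => (Nat.prime_dvd_prime_iff_eq ht hs).1 h
  have key : ∀ b : ℕ, ¬ t ^ (b + 1) ∣ 2 ^ 36 * (3 ^ 5 * (5 ^ 2 * (7 ^ 2 * (13 ^ 2 * (19 * (37 * 109)))))) → j ≤ b := by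
    intro b hb
    by_contra hcon
    exact hb ((pow_dvd_pow t (by omega)).trans hd)
  rcases ht.dvd_mul.1 h1 with h | h
  · exact absurd (hpr Nat.prime_two (ht.dvd_of_dvd_pow h)) h2
  rcases ht.dvd_mul.1 h with h | h
  · obtain rfl := hpr (by norm_num) (ht.dvd_of_dvd_pow h)
    have := key 5 (by norm_num)
    interval_cases j <;> norm_num
  rcases ht.dvd_mul.1 h with h | h
  · obtain rfl := hpr (by norm_num) (ht.dvd_of_dvd_pow h)
    have := key 2 (by norm_num)
    interval_cases j <;> norm_num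
  rcases ht.dvd_mul.1 h with h | h
  · obtain rfl := hpr (by norm_num) (ht.dvd_of_dvd_pow h)
    have := key 2 (by norm_num)
    interval_cases j <;> norm_num
  rcases ht.dvd_mul.1 h with h | h
  · obtain rfl := hpr (by norm_num) (ht.dvd_of_dvd_pow h)
    have := key 2 (by norm_num)
    interval_cases j <;> norm_num
  rcases ht.dvd_mul.1 h with h | h
  · obtain rfl := hpr (by norm_num) h
    have := key 1 (by norm_num)
    interval_cases j <;> norm_num
  rcases ht.dvd_mul.1 h with h | h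
  · exact absurd (hpr (by norm_num) h) h37
  · obtain rfl := hpr (by norm_num) h
    have := key 1 (by norm_num)
    interval_cases j <;> norm_num

/-- **The same characteristic, one Zsigmondy prime.** -/
theorem charp_one {c u : ℕ} {g : OrdDiv.Grp} (hm : 1 ≤ m) (hg : Cond g) (hch : HasChar 2 g) (hc : den g * c = num g)
    (hdvd : c ∣ num (.tf4 (2 ^ (2 * m + 1)))) (hu : Prim 2 (12 * (2 * m + 1)) u) (huc : u ∣ c) :
    g = .tf4 (2 ^ (2 * m + 1)) ∨ g = .psu 3 (2 ^ ((2 * m + 1) * 2)) := by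
  refine charp_tf4z Nat.prime_two (by omega) ⟨m, hm, rfl⟩ hg hch hc hdvd ?_
  obtain ⟨f₁, hf₁, hfl, hK, hY⟩ := kd_all Nat.prime_two hg hch hc
  exact zt_of_one Nat.prime_two hf₁ (td_tf4 Nat.prime_two (by omega) hdvd) hK hY (by omega)
    ⟨u, by rwa [mul_comm], huc⟩

end num

/-! ### alternating groups -/

/-- alternating groups are excluded by the automizer -/
theorem not_altT {S : Type*} [Group S] [Finite S] {r m : ℕ} (h : Big S r m 12) (hr : r ∣ Nat.card S) (h25 : 25 < r)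
    {k : ℕ} (Φ : S ≃* alternatingGroup (Fin k)) : False := by
  have hp := h.prime
  have := Fact.mk hp
  have hb := h.congr Φ
  have hrk : r ≤ k := by
    have h1 : r ∣ k.factorial := by
      have h2 : r ∣ Nat.card (Equiv.Perm (Fin k)) :=
        (hr.trans (Nat.card_congr Φ.toEquiv).dvd).trans (Subgroup.card_subgroup_dvd_card _)
      rwa [Nat.card_perm, Nat.card_fin] at h2
    exact (hp.dvd_factorial).1 h1
  -- an `r`-cycle
  obtain ⟨σ, hσ⟩ : ∃ σ : Equiv.Perm (Fin k), σ.cycleType = {r} := by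
    have := (Equiv.Perm.exists_with_cycleType_iff (Fin k) (m := {r})).2 ⟨by simpa using hrk, by
      intro a ha
      rw [Multiset.mem_singleton] at ha
      rw [ha]; exact hp.two_le⟩
    exact this
  have hodd : Odd r := hp.odd_of_ne_two (by omega)
  have hσc : σ.IsCycle := by
    rw [← Equiv.Perm.card_cycleType_eq_one, hσ, Multiset.card_singleton]
  have hσo : orderOf σ = r := by
    rw [← Equiv.Perm.lcm_cycleType, hσ, Multiset.lcm_singleton, normalize_eq]
  have hσA : σ ∈ alternatingGroup (Fin k) := by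
    rw [Equiv.Perm.mem_alternatingGroup, hσc.sign]
    have h1 : σ.support.card = r := by rw [← hσo, hσc.orderOf]
    rw [h1, hodd.neg_one_pow, neg_neg]
  -- a generator of the units
  obtain ⟨g, hg⟩ := IsCyclic.exists_ofOrder_eq_natCard (α := (ZMod r)ˣ)
  rw [Nat.card_eq_fintype_card, ZMod.card_units r] at hg
  set n : ℕ := ZMod.val (g : ZMod r) with hn
  have hcop : n.Coprime (orderOf σ) := by rw [hσo]; exact ZMod.val_coe_unit_coprime g
  have hconj : IsConj σ (σ ^ n) := by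
    rw [Equiv.Perm.isConj_iff_cycleType_eq, hσc.cycleType, (hσc.pow_iff.2 hcop).cycleType,
      Equiv.Perm.support_pow_coprime hcop]
  obtain ⟨z, hz⟩ := isConj_iff.1 hconj
  have hpow : ∀ j : ℕ, z ^ j * σ * (z ^ j)⁻¹ = σ ^ (n ^ j) := by
    intro j
    induction j with
    | zero => simp
    | succ j ih =>
      calc z ^ (j + 1) * σ * (z ^ (j + 1))⁻¹ = z * (z ^ j * σ * (z ^ j)⁻¹) * z⁻¹ := by
            rw [pow_succ']; group
        _ = (z * σ * z⁻¹) ^ (n ^ j) := by rw [ih, conj_pow]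
        _ = σ ^ (n ^ (j + 1)) := by rw [hz, ← pow_mul, pow_succ']
  have hzA : z ^ 2 ∈ alternatingGroup (Fin k) := by
    rw [Equiv.Perm.mem_alternatingGroup, map_pow, Int.units_sq]
  have h1 := hb.aut ⟨σ, hσA⟩ ⟨z ^ 2, hzA⟩ (by rw [Subgroup.orderOf_mk, hσo]) ⟨((n ^ 2 : ℕ) : ℤ), by
    show (⟨σ, hσA⟩ : alternatingGroup (Fin k)) ^ ((n ^ 2 : ℕ) : ℤ) = _
    rw [zpow_natCast]
    exact Subtype.ext (hpow 2).symm⟩
  have h2 : (z ^ 2) ^ 12 * σ = σ * (z ^ 2) ^ 12 := congrArg Subtype.val h1.eq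
  have h3 : σ ^ (n ^ 24) = σ := by
    rw [← hpow 24, mul_inv_eq_iff_eq_mul]
    rw [← pow_mul] at h2
    exact h2
  have h4 : g ^ 24 = 1 := by
    apply Units.ext
    have h5 : n ^ 24 ≡ 1 [MOD r] := by
      rw [← hσo]
      exact pow_eq_pow_iff_modEq.1 (by rw [h3, pow_one])
    have h6 := (ZMod.natCast_eq_natCast_iff _ _ _).2 h5
    rw [Nat.cast_pow, hn, ZMod.natCast_zmod_val, Nat.cast_one] at h6
    rw [Units.val_pow_eq_pow_val, h6, Units.val_one]
  have h5 := Nat.le_of_dvd (by norm_num) (orderOf_dvd_of_pow_eq_one h4)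
  omega

/-! ### the theorem -/

section group

variable {F : Type} [Field F] [Fintype F] {m k u : ℕ}

theorem big_kx (hF : Fintype.card F = 2 ^ (2 * m + 1)) (hm : 1 ≤ m) (hk : Kx m k) {r : ℕ} (hr : r.Prime) (hd : r ∣ k) :
    Big ↥(twistedF4 F (2 ^ m)) r k 12 := by
  rcases hk with rfl | rfl
  · exact big_TF4_plus hF hm hr hd
  · exact big_TF4_minus hF hm hr hd

/-- the family -/
def BK (k : ℕ) : ℕ → ℕ → ℕ → Prop := fun r m e => (r.Prime ∧ r ∣ k) ∧ m = k ∧ e = 12

theorem prBK {k r : ℕ} : Pr (BK k) r ↔ r.Prime ∧ r ∣ k :=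
  ⟨fun ⟨_, _, h⟩ => h.1, fun h => ⟨_, _, h, rfl, rfl⟩⟩

/-- the cofactor -/
theorem kx_cop (hm : 1 ≤ m) (hk : Kx m k) : ∃ k', k * k' = mP (2 ^ m) * mM (2 ^ m) ∧ k.Coprime k' ∧ 1 < k' := by
  have h1 := H290.KTF4.cop hm
  rcases hk with rfl | rfl
  · refine ⟨mM (2 ^ m), rfl, h1, ?_⟩
    have := Kx.gt (k := mM (2 ^ m)) hm (Or.inr rfl)
    omega
  · refine ⟨mP (2 ^ m), mul_comm _ _, h1.symm, ?_⟩
    have := Kx.gt (k := mP (2 ^ m)) hm (Or.inl rfl)
    omega

/-- `U₃(q²)` has a cyclic torus of order `q⁴ - q² + 1` -/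
theorem kill_psu3T {S : Type} [Group S] [Finite S] (hm : 1 ≤ m) (hS : IsNamed (.psu 3 (2 ^ ((2 * m + 1) * 2))) S)
    (hk : Kx m k) {r : ℕ} (hr : r.Prime) (hrk : r ∣ k) (hb : Big S r k 12) : False := by
  obtain ⟨K, _, _, hK, ⟨e⟩⟩ := hS.real
  have hp2 : Fact (Nat.Prime 2) := ⟨Nat.prime_two⟩
  have hK' : Fintype.card K = 2 ^ ((2 * m + 1) * 2 * 2) := by rw [hK]; ring
  have : CharP K 2 := charP_of_card_eq_prime_pow hK'
  have h8 := hq8 hm
  have hQ : 2 ^ ((2 * m + 1) * 2) = (2 ^ (2 * m + 1)) ^ 2 := by rw [← pow_mul]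
  have hg : Nat.gcd 3 (2 ^ ((2 * m + 1) * 2) + 1) = 1 := by
    have h1 : 2 ^ ((2 * m + 1) * 2) % 3 = 1 := by
      rw [mul_comm, pow_mul, Nat.pow_mod]
      norm_num
    refine (Nat.Prime.coprime_iff_not_dvd Nat.prime_three).2 fun h => ?_
    omega
  have hn : (2 ^ ((2 * m + 1) * 2)) ^ 2 - 2 ^ ((2 * m + 1) * 2) + 1 = mP (2 ^ m) * mM (2 ^ m) := by
    rw [prod_eq hm, hQ]
    generalize 2 ^ (2 * m + 1) = q at *
    show (q ^ 2) ^ 2 - q ^ 2 + 1 = q ^ 4 - q ^ 2 + 1
    rw [← pow_mul]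
  obtain ⟨k', hk', -, hk1⟩ := kx_cop hm hk
  obtain ⟨z, hz⟩ := Cfsg.Agent.H127.PSUThreeEx.ex_four 2 hK (k * k') (by rw [hg, Nat.div_one, hn, hk'])
  obtain ⟨j, hj⟩ := hrk
  have hk0 : 0 < k := hk.pos hm
  have hj0 : j ≠ 0 := by
    rintro rfl
    omega
  -- the element of order `r`
  have hx : orderOf (z ^ (j * k')) = r := by
    have h1 : k * k' = r * (j * k') := by rw [hj, mul_assoc]
    have h2 : j * k' ≠ 0 := Nat.mul_ne_zero hj0 (by omega)
    rw [orderOf_pow_of_dvd h2 (by rw [hz, h1]; exact Dvd.intro_left _ rfl), hz, h1,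
      Nat.mul_div_cancel _ (Nat.pos_of_ne_zero h2)]
  have h3 := hb.card (e.symm (z ^ (j * k'))) (by rw [MulEquiv.orderOf_eq, hx])
  have h4 : e.symm z ∈ Subgroup.centralizer ({e.symm (z ^ (j * k'))} : Set S) := by
    rw [Subgroup.mem_centralizer_singleton_iff, ← map_mul, ← map_mul, ← pow_succ, ← pow_succ']
  have h5 : orderOf (e.symm z) ∣ k := by
    have h6 : orderOf (⟨e.symm z, h4⟩ : ↥(Subgroup.centralizer ({e.symm (z ^ (j * k'))} : Set S))) =
        orderOf (e.symm z) := by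
      rw [← Subgroup.orderOf_coe]
    rw [← h6]
    exact (_root_.orderOf_dvd_natCard _).trans h3
  rw [MulEquiv.orderOf_eq, hz] at h5
  have h6 : k * k' ≤ k * 1 := by rw [mul_one]; exact Nat.le_of_dvd hk0 h5
  have := Nat.le_of_mul_le_mul_left h6 hk0
  omega

theorem card_tf4 (tb : OrderTable.{0}) (hF : Fintype.card F = 2 ^ (2 * m + 1)) (hm : 1 ≤ m) :
    Nat.card ↥(twistedF4 F (2 ^ m)) = OL .TF4 (2 ^ (2 * m + 1)) := by
  have h1 := (named tb hF hm).eq
  have h2 : OL .TF4 (2 ^ (2 * m + 1)) = num (.tf4 (2 ^ (2 * m + 1))) := rfl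
  rw [h2, ← h1]
  exact (one_mul _).symm

/-- **The theorem.** -/
theorem card_dvd_tf4 (tb : OrderTable.{0}) (hcyc : CycFixSolv.{0})
    (hcf : ∀ (S : Type) [Group S] [Finite S] [IsSimpleGroup S], IsKnownSimple' S)
    (hF : Fintype.card F = 2 ^ (2 * m + 1)) (hm : 1 ≤ m) (hk : Kx m k) (hu : Prim 2 (12 * (2 * m + 1)) u)
    (huk : u ∣ k) {M : Subgroup ↥(twistedF4 F (2 ^ m))} (hM : M ≠ ⊤) (hkM : k ∣ Nat.card M) :
    Nat.card M ∣ 12 * k := by
  by_contra hsep
  apply hM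
  have hp2 : Fact (Nat.Prime 2) := ⟨Nat.prime_two⟩
  have : CharP F 2 := charP_of_card_eq_prime_pow hF
  have h8 := hq8 hm
  have hT := named tb hF hm
  have hu37 : 36 < u := by
    have h1 := lt_of_prim hu
    omega
  have huM : u ∣ Nat.card M := huk.trans hkM
  have hbM : ∀ r, r.Prime → r ∣ k → Big ↥M r k 12 := fun r hr hrk => (big_kx hF hm hk hr hrk).subgroup M
  have hrf : RFam ↥M (BK k) := by
    refine ⟨?_, ?_, ?_⟩
    · rintro r _ _ ⟨⟨hr, hrk⟩, rfl, rfl⟩
      exact hbM r hr hrk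
    · rintro r _ _ ⟨⟨hr, hrk⟩, rfl, rfl⟩
      exact hrk.trans hkM
    · rintro r _ _ ⟨-, rfl, rfl⟩
      exact hsep
  -- reducedness
  have hcore : ∀ A : Subgroup M, A.Normal → IsPGroup 2 A → A = ⊥ := fun A hA hAp =>
    pcore_of_piso ((Cfsg.Agent.H325.IsoTwF4.piso_twF4 hm hF hu).sub M) huM A hA hAp
  obtain ⟨τ, hτ⟩ := (fth (F := F) (2 ^ m)).sub M.subtype M.subtype_injective
  have hcardT := card_tf4 tb hF hm
  have hMT : Nat.card M ∣ OL .TF4 (2 ^ (2 * m + 1)) := by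
    rw [← hcardT]
    exact Subgroup.card_subgroup_dvd_card M
  have hred : Red ↥M (Pr (BK k)) := by
    refine red_of hcyc hτ hcore (prBK.2 ⟨hu.prime, huk⟩) hu.prime huM (fun x hx => (hbM u hu.prime huk).cyc x hx)
      fun t ht ht2 htn htM => ?_
    rw [Fintype.card_fin]
    refine ⟨k, hkM, ?_, ?_⟩
    · intro x hx hxm a hat hc
      have h1 := (hbM (orderOf x) hx hxm).card x rfl
      have h2 : a ∈ Subgroup.centralizer ({x} : Set ↥M) := Subgroup.mem_centralizer_singleton_iff.2 hc.symm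
      have h3 : orderOf a ∣ k := by
        have h6 : orderOf (⟨a, h2⟩ : ↥(Subgroup.centralizer ({x} : Set ↥M))) = orderOf a := by
          rw [← Subgroup.orderOf_coe]
        rw [← h6]
        exact (_root_.orderOf_dvd_natCard _).trans h1
      rcases (Nat.dvd_prime ht).1 (orderOf_dvd_of_pow_eq_one hat) with h4 | h4
      · exact orderOf_eq_one_iff.1 h4
      · exfalso
        rw [h4] at h3
        exact htn (prBK.2 ⟨ht, h3⟩)
    · rcases hk.gt hm with h | ⟨rfl, rfl⟩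
      · exact Or.inl h
      · right
        refine ⟨by norm_num, fun j hj htj => ?_⟩
        refine no37 ht ht2 (fun h => htn (prBK.2 ⟨ht, h ▸ dvd_rfl⟩)) hj (htj.trans hMT)
  obtain ⟨S, hSn, hSs, hSna, -, hS⟩ := exists_fullC hcyc hrf hred (r₁ := u) (m₁ := k) (e₁ := 12)
    ⟨⟨hu.prime, huk⟩, rfl, rfl⟩
  have hSs' : IsSimpleGroup S := hSs
  have hS0 : ∀ r, r.Prime → r ∣ k → Big ↥S r k 12 ∧ r ∣ Nat.card S ∧ ¬ r ∣ S.index := fun r hr hrk => by
    obtain ⟨h1, h2, h3, -⟩ := hS r k 12 ⟨⟨hr, hrk⟩, rfl, rfl⟩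
    exact ⟨h1, h2, h3⟩
  have hSd : k ∣ Nat.card S := by
    rw [← Subgroup.card_mul_index S] at hkM
    refine Nat.Coprime.dvd_of_dvd_mul_right (Nat.coprime_of_dvd fun r hr h1 h2 => ?_) hkM
    exact (hS0 r hr h1).2.2 h2
  have hST : Nat.card S ∣ OL .TF4 (2 ^ (2 * m + 1)) := (Subgroup.card_subgroup_dvd_card S).trans hMT
  have hna' : ¬ ∀ a b : S, a * b = b * a := fun h => hSna ⟨⟨h⟩⟩
  have hrepS : Fth 52 F S := ((fth (F := F) (2 ^ m)).sub M.subtype M.subtype_injective).sub S.subtype S.subtype_injective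
  obtain ⟨hbu, huS, -⟩ := hS0 u hu.prime huk
  obtain ⟨g, hg⟩ := exists_named tb (hcf S) hna'
  rcases Cfsg.Agent.H192.Singer.cases_name hg.cond with ⟨j, rfl⟩ | hsp | ⟨l, hl, hch⟩
  · exfalso
    obtain ⟨Φ⟩ : Nonempty (S ≃* alternatingGroup (Fin j)) := hg.real
    exact not_altT hbu huS (by omega) Φ
  · exfalso
    have h1 := Cfsg.Agent.H192.Singer.spor_mem hsp
    have h2 : Nat.card S = ordN g := hg.ord
    exact no_sporT hm hk h1 (by rw [← h2]; exact hSd) (by rw [← h2]; exact hST)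
  · by_cases hpl : l = 2
    · subst hpl
      rcases charp_one hm hg.cond hch hg.eq hST hu huS with rfl | rfl
      · exact eq_top_of_name hT hg
      · exact (kill_psu3T hm hg hk hu.prime huk hbu).elim
    · exfalso
      obtain ⟨X, f₁, h1, h2, -⟩ := exists_lie hl hg hch
      have hlF : (l : F) ≠ 0 := by
        intro h
        exact hpl ((Nat.prime_dvd_prime_iff_eq Nat.prime_two hl).1 ((CharP.cast_eq_zero_iff F 2 l).1 h)).symm
      have h3 := Cfsg.Agent.H290.ElReg.lb_le hna' (by norm_num) hrepS h1 hg.real h2 hlF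
      obtain ⟨rfl, h4⟩ := no_crossT hm hk h2 h3 hSd hST
      have h37 : u = 37 := (Nat.prime_dvd_prime_iff_eq hu.prime (by norm_num)).1 huk
      subst h37
      obtain ⟨a, ha, hmod⟩ := Cfsg.Agent.H349.KD4.Big.mod_mem hbu rfl huS
      apply h4
      have h6 : a ≤ 12 := Nat.le_of_dvd (by norm_num) ha
      unfold Nat.ModEq at hmod
      rw [hmod]
      interval_cases a <;> revert ha <;> decide

end group

/-- a factor with a Zsigmondy prime -/
theorem exists_kx {m : ℕ} (hm : 1 ≤ m) : ∃ k u, Kx m k ∧ Prim 2 (12 * (2 * m + 1)) u ∧ u ∣ k := by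
  obtain ⟨u, hu⟩ := Cfsg.Agent.H436.exists_prim (q := 2) (e := 12 * (2 * m + 1)) le_rfl (by omega) (by omega)
  have huq : Prim (2 ^ (2 * m + 1)) 12 u := prim_pow (by omega) (by rwa [mul_comm (2 * m + 1)])
  rcases (cl_iff hm).2 huq with h | h
  · exact ⟨_, u, Or.inl rfl, hu, h.2⟩
  · exact ⟨_, u, Or.inr rfl, hu, h.2⟩

/-- **`²F₄(q)`: overgroups of a torus of class 12 whose order is divisible by a Zsigmondy prime.** -/
theorem over_tf4 {T : Type*} [Group T] [Finite T] {m k u : ℕ} (hm : 1 ≤ m) (hT : IsNamed (.tf4 (2 ^ (2 * m + 1))) T)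
    (hk : Kx m k) (hu : Prim 2 (12 * (2 * m + 1)) u) (huk : u ∣ k) (x : T) (hx : orderOf x = k) :
    Over x (fun _ => False) := by
  intro H hxH hH
  left
  obtain ⟨F, _, _, m', hm', hF, hm2, ⟨e⟩⟩ := hT.real
  obtain rfl : m' = m := by
    have h1 := Nat.pow_right_injective (le_refl 2) hm2
    omega
  let M : Subgroup ↥(twistedF4 F (2 ^ m')) := H.map e.toMonoidHom
  have hcM : Nat.card M = Nat.card H := Nat.card_congr (H.equivMapOfInjective _ e.injective).symm.toEquiv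
  have hM : M ≠ ⊤ := by
    intro h
    apply hH
    apply Subgroup.eq_top_of_card_eq
    rw [← hcM, h, Subgroup.card_top, Nat.card_congr e.toEquiv]
  have hkM : k ∣ Nat.card M := by
    rw [hcM, ← hx, ← Subgroup.orderOf_mk x hxH]
    exact _root_.orderOf_dvd_natCard _
  have h1 := card_dvd_tf4 Cfsg.Agent.OrdDiv.table cycFixSolv (fun _ _ _ _ => Cfsg.Agent.S0000.result) hF hm hk hu huk
    hM hkM
  rw [hcM, ← hx] at h1
  refine le_normalizer_of_card hxH (by norm_num) ?_ h1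
  rw [hx]
  refine Nat.coprime_of_dvd fun r hr h2 h3 => ?_
  have h4 := hk.lt12 hm hr h2
  have h5 : r ≤ 12 := (Nat.Prime.dvd_factorial hr).1 h3
  omega

end Cfsg.Agent.H394.Wei
end
end
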